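import Mathlib

/-!
# Finite groups generated by pseudo-reflections: the local ring is free over the invariants
-/

open scoped TensorProduct
open IsLocalRing Submodule

universe u

namespace GrothLib.PseudoRefl



variable {k : Type u} [Field k] {A : Type u} [CommRing A] [IsLocalRing A] [Algebra k A] [IsNoetherianRing A]
  {G : Type u} [Group G] [MulSemiringAction G A] [SMulCommClass G k A]

omit [IsNoetherianRing A] in
theorem smul_mem_maximalIdeal (g : G) {a : A} (ha : a ∈ maximalIdeal A) : g • a ∈ maximalIdeal A := by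
  rw [mem_maximalIdeal, mem_nonunits_iff] at ha ⊢
  exact fun h => ha (by simpa using h.map (MulSemiringAction.toRingHom G A g⁻¹))

omit [IsLocalRing A] [IsNoetherianRing A] in
theorem smul_algebraMap' (g : G) (c : k) : g • algebraMap k A c = algebraMap k A c := by
  rw [Algebra.algebraMap_eq_smul_one, smul_comm, smul_one]

variable [Finite G]

/-- A pseudo-reflection moves every element into a principal ideal generated by an eigenvector. -/
theorem exists_principal (hres : ∀ a : A, ∃ c : k, a - algebraMap k A c ∈ maximalIdeal A) {n : ℕ} (x : Fin n → A)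
    (hx : Ideal.span (Set.range x) = maximalIdeal A) (hN : (Nat.card G : k) ≠ 0) (g : G)
    (hg : n ≤ Module.finrank k (A ⧸ (Ideal.span {x : A | ∃ a, x = g • a - a} ⊔ maximalIdeal A ^ 2))) :
    ∃ l ∈ maximalIdeal A, ∀ a, g • a - a ∈ Ideal.span {l} := by
  classical
  let J := Ideal.span {x : A | ∃ a, x = g • a - a}
  have hJM : J ≤ (maximalIdeal A) := Ideal.span_le.2 (by
    rintro _ ⟨a, rfl⟩
    obtain ⟨c, hc⟩ := hres a
    have h : g • a - a = (g • (a - algebraMap k A c)) - (a - algebraMap k A c) := by
      rw [smul_sub, smul_algebraMap']; ring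
    rw [h]
    exact (maximalIdeal A).sub_mem (smul_mem_maximalIdeal g hc) hc)
  -- the image of `J` in `A / M²` is at most a line
  let V := A ⧸ (maximalIdeal A) ^ 2
  let q : A →ₗ[k] V := (Ideal.Quotient.mkₐ k ((maximalIdeal A) ^ 2)).toLinearMap
  have hspan : (⊤ : Submodule k V) ≤ span k (Set.range (Fin.cons (q 1) (q ∘ x) : Fin (n + 1) → V)) := by
    rintro v -
    obtain ⟨a, rfl⟩ := Ideal.Quotient.mk_surjective v
    obtain ⟨c, hc⟩ := hres a
    rw [← hx] at hc
    obtain ⟨b, hb⟩ := Ideal.mem_span_range_iff_exists_fun.1 hc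
    choose d hd using fun i => hres (b i)
    have hb' : Ideal.Quotient.mk ((maximalIdeal A) ^ 2) a = c • q 1 + ∑ i, d i • q (x i) := by
      have h1 : a - (algebraMap k A c + ∑ i, algebraMap k A (d i) * x i) ∈ (maximalIdeal A) ^ 2 := by
        rw [show a - (algebraMap k A c + ∑ i, algebraMap k A (d i) * x i) = ∑ i, (b i - algebraMap k A (d i)) * x i by
          simp only [sub_mul, Finset.sum_sub_distrib, hb]; ring, pow_two]
        exact Ideal.sum_mem _ fun i _ => Ideal.mul_mem_mul (hd i) (hx ▸ Ideal.subset_span ⟨i, rfl⟩)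
      rw [← Ideal.Quotient.eq] at h1
      rw [h1, ← map_smul, ← Finset.sum_congr rfl fun i _ => map_smul q (d i) (x i), ← map_sum, ← map_add]
      simp [q, Algebra.smul_def]
    rw [hb']
    refine add_mem (smul_mem _ _ (subset_span ⟨0, rfl⟩)) (sum_mem fun i _ => smul_mem _ _ (subset_span ⟨i.succ, rfl⟩))
  have : Module.Finite k V := ⟨top_le_iff.1 hspan ▸ Submodule.fg_span (Set.finite_range _)⟩
  have hV : Module.finrank k V ≤ n + 1 := by
    rw [← finrank_top (R := k) (M := V)]
    exact ((Submodule.finrank_mono hspan).trans (finrank_range_le_card _)).trans (by simp)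
  let W : Submodule k V := (J.restrictScalars k).map q
  let r : V →ₐ[k] A ⧸ (J ⊔ (maximalIdeal A) ^ 2) := Ideal.Quotient.factorₐ k le_sup_right
  have hker : LinearMap.ker r.toLinearMap ≤ W := by
    intro v hv
    obtain ⟨a, rfl⟩ := Ideal.Quotient.mk_surjective v
    have ha : a ∈ J ⊔ (maximalIdeal A) ^ 2 := Ideal.Quotient.eq_zero_iff_mem.1 hv
    obtain ⟨j, hj, m, hm, rfl⟩ := Submodule.mem_sup.1 ha
    exact ⟨j, hj, by simp [q, Ideal.Quotient.eq_zero_iff_mem.2 hm]⟩
  have hW : Module.finrank k W ≤ 1 := by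
    have hWk : W ≤ LinearMap.ker r.toLinearMap := by
      rintro _ ⟨j, hj, rfl⟩
      exact Ideal.Quotient.eq_zero_iff_mem.2 (le_sup_left (b := (maximalIdeal A) ^ 2) hj)
    have h1 := r.toLinearMap.finrank_range_add_finrank_ker
    change _ ≤ Module.finrank k (A ⧸ (J ⊔ (maximalIdeal A) ^ 2)) at hg
    rw [le_antisymm hker hWk, LinearMap.range_eq_top.2 (Ideal.Quotient.factor_surjective le_sup_right),
      finrank_top] at h1
    omega
  obtain ⟨⟨w, hw⟩, hwW⟩ := finrank_le_one_iff.1 hW
  obtain ⟨l₀, hl₀, rfl⟩ := hw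
  have hJl : ∀ a ∈ J, ∃ c : k, a - algebraMap k A c * l₀ ∈ (maximalIdeal A) ^ 2 := fun a ha => by
    obtain ⟨c, hc⟩ := hwW ⟨q a, a, ha, rfl⟩
    refine ⟨c, Ideal.Quotient.eq.1 ?_⟩
    have := congrArg Subtype.val hc
    simp only [SetLike.val_smul] at this
    change q a = q (algebraMap k A c * l₀)
    rw [← Algebra.smul_def, map_smul, this]
  -- averaging over the cyclic group of `g`
  let e := orderOf g
  have he : (e : k) ≠ 0 := fun h => hN (by
    obtain ⟨d, hd⟩ := orderOf_dvd_natCard g
    rw [hd, Nat.cast_mul]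
    simp [e, show ((orderOf g : ℕ) : k) = 0 from h])
  have hge : g ^ e = 1 := pow_orderOf_eq_one g
  have hgj : ∀ (a : A) (j : ℕ), g ^ j • a - a ∈ J := fun a j => by
    induction j with
    | zero => simp
    | succ j ih =>
      rw [pow_succ', mul_smul, show g • g ^ j • a - a = (g • g ^ j • a - g ^ j • a) + (g ^ j • a - a) by ring]
      exact J.add_mem (Ideal.subset_span ⟨g ^ j • a, rfl⟩) ih
  obtain ⟨ζ, hζ⟩ : ∃ ζ : k, g • l₀ - algebraMap k A ζ * l₀ ∈ (maximalIdeal A) ^ 2 := by
    obtain ⟨c, hc⟩ := hJl _ (Ideal.subset_span ⟨l₀, rfl⟩)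
    exact ⟨c + 1, by rw [map_add, map_one, add_mul, one_mul]; convert hc using 1; ring⟩
  have hgM2 : ∀ m ∈ (maximalIdeal A) ^ 2, ∀ h : G, h • m ∈ (maximalIdeal A) ^ 2 := fun m hm h => by
    have : (maximalIdeal A) ^ 2 ≤ ((maximalIdeal A) ^ 2).comap (MulSemiringAction.toRingHom G A h) := by
      rw [← Ideal.map_le_iff_le_comap, Ideal.map_pow]
      refine Ideal.pow_right_mono (Ideal.map_le_iff_le_comap.2 fun a ha => ?_) 2
      exact smul_mem_maximalIdeal h ha
    exact this hm
  have hpow : ∀ j : ℕ, g ^ j • l₀ - algebraMap k A (ζ ^ j) * l₀ ∈ (maximalIdeal A) ^ 2 := fun j => by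
    induction j with
    | zero => simp
    | succ j ih =>
      rw [pow_succ' g, mul_smul, show g • g ^ j • l₀ - algebraMap k A (ζ ^ (j + 1)) * l₀ =
          g • (g ^ j • l₀ - algebraMap k A (ζ ^ j) * l₀) + algebraMap k A (ζ ^ j) * (g • l₀ - algebraMap k A ζ * l₀) by
        rw [smul_sub, smul_mul', smul_algebraMap', pow_succ, map_mul]; ring]
      exact ((maximalIdeal A) ^ 2).add_mem (hgM2 _ ih g) (((maximalIdeal A) ^ 2).mul_mem_left _ hζ)
  -- an eigenvector congruent to `l₀`
  obtain ⟨l, ξ, hl, hlM⟩ : ∃ (l : A) (ξ : k), g • l = algebraMap k A ξ * l ∧ l - l₀ ∈ (maximalIdeal A) ^ 2 := by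
    by_cases h2 : l₀ ∈ (maximalIdeal A) ^ 2
    · exact ⟨0, 1, by simp, by simpa using h2⟩
    have hζe : ζ ^ e = 1 := by
      by_contra hne
      have := hpow e
      rw [hge, one_smul, show l₀ - algebraMap k A (ζ ^ e) * l₀ = algebraMap k A (1 - ζ ^ e) * l₀ by
        rw [map_sub, map_one]; ring] at this
      exact h2 ((Ideal.unit_mul_mem_iff_mem _ ((isUnit_iff_ne_zero.2 (sub_ne_zero.2 (Ne.symm hne))).map _)).1 this)
    have hζ0 : ζ ≠ 0 := fun h => by
      rw [h, zero_pow (orderOf_pos g).ne'] at hζe
      exact zero_ne_one hζe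
    let F : ℕ → A := fun j => algebraMap k A ((ζ ^ j)⁻¹) * g ^ j • l₀
    refine ⟨algebraMap k A (e : k)⁻¹ * ∑ j ∈ Finset.range e, F j, ζ, ?_, ?_⟩
    · have hF : ∀ j, g • F j = algebraMap k A ζ * F (j + 1) := fun j => by
        simp only [F]
        rw [smul_mul', smul_algebraMap', ← mul_smul, ← pow_succ' g, ← mul_assoc, ← map_mul]
        congr 2
        rw [pow_succ, mul_inv, mul_comm, mul_assoc, inv_mul_cancel₀ hζ0, mul_one]
      have hsum : ∑ j ∈ Finset.range e, F (j + 1) = ∑ j ∈ Finset.range e, F j := by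
        have h1 := (Finset.sum_range_succ' F e).symm.trans (Finset.sum_range_succ F e)
        have h2 : F e = F 0 := by simp [F, hζe, hge]
        rwa [h2, add_left_inj] at h1
      rw [smul_mul', smul_algebraMap', Finset.smul_sum, Finset.sum_congr rfl (fun j _ => hF j), ← Finset.mul_sum, hsum]
      ring
    · have : algebraMap k A (e : k)⁻¹ * ∑ j ∈ Finset.range e, F j - l₀ =
          algebraMap k A (e : k)⁻¹ * ∑ j ∈ Finset.range e,
            algebraMap k A ((ζ ^ j)⁻¹) * (g ^ j • l₀ - algebraMap k A (ζ ^ j) * l₀) := by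
        simp only [F, mul_sub, ← mul_assoc (algebraMap k A _) (algebraMap k A _), ← map_mul,
          inv_mul_cancel₀ (pow_ne_zero _ hζ0), map_one, one_mul, Finset.sum_sub_distrib, Finset.sum_const,
          Finset.card_range, nsmul_eq_mul]
        rw [← map_natCast (algebraMap k A) e, ← mul_assoc, ← map_mul, inv_mul_cancel₀ he, map_one, one_mul]
      rw [this]
      exact ((maximalIdeal A) ^ 2).mul_mem_left _ (Ideal.sum_mem _ fun j _ => ((maximalIdeal A) ^ 2).mul_mem_left _ (hpow j))
  have hlM' : l ∈ (maximalIdeal A) := by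
    have : l = (l - l₀) + l₀ := by ring
    rw [this]
    exact (maximalIdeal A).add_mem (Ideal.pow_le_self (by norm_num) hlM) (hJM hl₀)
  refine ⟨l, hlM', fun a => ?_⟩
  -- invariant generators
  let y : Fin n → A := fun i => algebraMap k A (e : k)⁻¹ * ∑ j ∈ Finset.range e, g ^ j • x i
  have hy : ∀ i, g • y i = y i := fun i => by
    simp only [y, smul_mul', smul_algebraMap', Finset.smul_sum]
    congr 1
    have h1 := (Finset.sum_range_succ' (fun j => g ^ j • x i) e).symm.trans (Finset.sum_range_succ (fun j => g ^ j • x i) e)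
    simp only [pow_zero, hge, add_left_inj] at h1
    simp only [← mul_smul, ← pow_succ' g]
    exact h1
  let P : Ideal A := Ideal.span (Set.range y) ⊔ Ideal.span {l}
  have hxmem : ∀ i, x i ∈ (maximalIdeal A) := fun i => hx ▸ Ideal.subset_span ⟨i, rfl⟩
  have hyM : ∀ i, y i ∈ (maximalIdeal A) := fun i =>
    (maximalIdeal A).mul_mem_left _ (Ideal.sum_mem _ fun j _ => smul_mem_maximalIdeal _ (hxmem i))
  have hPM : P ≤ (maximalIdeal A) := sup_le (Ideal.span_le.2 (by rintro _ ⟨i, rfl⟩; exact hyM i))
    ((Ideal.span_singleton_le_iff_mem _).2 hlM')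
  have hPeq : (maximalIdeal A) ≤ P := by
    refine Submodule.le_of_le_smul_of_le_jacobson_bot (IsNoetherian.noetherian (maximalIdeal A))
      (IsLocalRing.maximalIdeal_le_jacobson ⊥) ?_
    rw [Ideal.smul_eq_mul, ← pow_two]
    refine hx.ge.trans ?_
    rw [Ideal.span_le]
    rintro _ ⟨i, rfl⟩
    have hmem : y i - x i ∈ J := by
      have : y i - x i = algebraMap k A (e : k)⁻¹ * ∑ j ∈ Finset.range e, (g ^ j • x i - x i) := by
        simp only [y, Finset.sum_sub_distrib, Finset.sum_const, Finset.card_range, nsmul_eq_mul, mul_sub]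
        rw [← map_natCast (algebraMap k A) e, ← mul_assoc, ← map_mul, inv_mul_cancel₀ he, map_one, one_mul]
      rw [this]
      exact J.mul_mem_left _ (Ideal.sum_mem _ fun j _ => hgj _ j)
    obtain ⟨c, hc⟩ := hJl _ hmem
    have : x i = (y i - algebraMap k A c * l) +
        (-(y i - x i - algebraMap k A c * l₀) + algebraMap k A c * (l - l₀)) := by ring
    rw [SetLike.mem_coe, this]
    exact Submodule.add_mem_sup (P.sub_mem (le_sup_left (b := Ideal.span {l}) (Ideal.subset_span ⟨i, rfl⟩))
      (P.mul_mem_left _ (le_sup_right (a := Ideal.span (Set.range y)) (Ideal.mem_span_singleton_self l))))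
      (((maximalIdeal A) ^ 2).add_mem (((maximalIdeal A) ^ 2).neg_mem hc) (((maximalIdeal A) ^ 2).mul_mem_left _ hlM))
  have key : ∀ (m : ℕ) (a : A), g • a - a ∈ Ideal.span {l} ⊔ (maximalIdeal A) ^ m := fun m => by
    induction m with
    | zero => exact fun a => by simp
    | succ m ih =>
      intro a
      obtain ⟨c, hc⟩ := hres a
      obtain ⟨u, hu, v, hv, huv⟩ := Submodule.mem_sup.1 (hPeq hc)
      obtain ⟨b, rfl⟩ := Ideal.mem_span_range_iff_exists_fun.1 hu
      obtain ⟨b', rfl⟩ := Ideal.mem_span_singleton'.1 hv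
      have h1 : g • a - a = ∑ i, (g • b i - b i) * y i + ((g • b') * algebraMap k A ξ - b') * l := by
        have ha : a = algebraMap k A c + ((∑ i, b i * y i) + b' * l) := by rw [huv]; ring
        conv_lhs => rw [ha]
        simp only [smul_add, smul_algebraMap', Finset.smul_sum, smul_mul', hy, hl, sub_mul, Finset.sum_sub_distrib]
        ring
      rw [h1]
      refine add_mem (Ideal.sum_mem _ fun i _ => ?_) (le_sup_left (b := (maximalIdeal A) ^ (m + 1))
        (Ideal.mul_mem_left _ _ (Ideal.mem_span_singleton_self l)))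
      obtain ⟨s, hs, t, ht, hst⟩ := Submodule.mem_sup.1 (ih (b i))
      rw [← hst, add_mul]
      exact Submodule.add_mem_sup (Ideal.mul_mem_right _ _ hs) (pow_succ (maximalIdeal A) m ▸ Ideal.mul_mem_mul ht (hyM i))
  have hbot := Ideal.iInf_pow_smul_eq_bot_of_le_jacobson (R := A) (M := A ⧸ Ideal.span {l}) (maximalIdeal A)
    (IsLocalRing.maximalIdeal_le_jacobson ⊥)
  have : Ideal.Quotient.mk (Ideal.span {l}) (g • a - a) ∈
      (⨅ i : ℕ, (maximalIdeal A) ^ i • (⊤ : Submodule A (A ⧸ Ideal.span {l}))) := by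
    refine Submodule.mem_iInf _ |>.2 fun m => ?_
    obtain ⟨s, hs, t, ht, hst⟩ := Submodule.mem_sup.1 (key m a)
    rw [← hst, map_add, Ideal.Quotient.eq_zero_iff_mem.2 hs, zero_add,
      show Ideal.Quotient.mk (Ideal.span {l}) t = t • (1 : A ⧸ Ideal.span {l}) by
        rw [Algebra.smul_def, mul_one]; rfl]
    exact Submodule.smul_mem_smul ht mem_top
  rw [hbot, mem_bot] at this
  exact Ideal.Quotient.eq_zero_iff_mem.1 this

set_option maxHeartbeats 1600000 in
/-- If a finite group of invertible order is generated by elements moving everything into principal ideals of the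
maximal ideal, the local ring is free over the invariant ring and the latter is local Noetherian. -/
theorem free_of_generated [IsDomain A] (hN : (Nat.card G : k) ≠ 0)
    [Module.Finite (FixedPoints.subalgebra k A G) A]
    (hgen : Subgroup.closure {g : G | ∃ l ∈ maximalIdeal A, ∀ a, g • a - a ∈ Ideal.span {l}} = ⊤) :
    ∃ (_ : IsLocalRing (FixedPoints.subalgebra k A G)) (_ : IsNoetherianRing (FixedPoints.subalgebra k A G)),
      IsLocalHom (algebraMap (FixedPoints.subalgebra k A G) A) ∧ Module.Free (FixedPoints.subalgebra k A G) A := by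
  classical
  have := Fintype.ofFinite G
  set R := FixedPoints.subalgebra k A G
  have hunit : ∀ r : R, IsUnit (r : A) → IsUnit r := fun r hr => by
    obtain ⟨u, hu⟩ := hr
    have h1 : (↑u⁻¹ : A) ∈ R := fun g => by
      apply u.isUnit.mul_left_cancel
      have h2 : g • (u : A) = (u : A) := by rw [hu]; exact r.2 g
      conv_lhs => rw [← h2, ← smul_mul', Units.mul_inv, smul_one]
      rw [Units.mul_inv]
    exact IsUnit.of_mul_eq_one ⟨↑u⁻¹, h1⟩ (Subtype.ext (by simp [← hu]))
  have hlh : IsLocalHom (algebraMap R A) := ⟨hunit⟩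
  have hloc : IsLocalRing R := IsLocalRing.of_nonunits_add fun a b ha hb h => by
    have := IsLocalRing.nonunits_add (R := A) (a := (a : A)) (b := (b : A)) (fun h' => ha (hunit a h'))
      (fun h' => hb (hunit b h'))
    exact this (h.map (algebraMap R A))
  let act : G → (A →ₗ[R] A) := fun g =>
    { toFun := fun a => g • a
      map_add' := fun a b => smul_add g a b
      map_smul' := fun r a => by
        change g • ((r : A) * a) = (r : A) * g • a
        rw [smul_mul', show g • (r : A) = r from r.2 g] }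
  let cinv : A := algebraMap k A (Nat.card G : k)⁻¹
  have hc1 : cinv * (Nat.card G : A) = 1 := by
    rw [← map_natCast (algebraMap k A), ← map_mul, inv_mul_cancel₀ hN, map_one]
  let ε₀ : A →ₗ[R] A := LinearMap.mulLeft R cinv ∘ₗ ∑ g, act g
  have hεR : ∀ a, ε₀ a ∈ R := fun a h => by
    simp only [ε₀, LinearMap.comp_apply, LinearMap.coe_sum, Finset.sum_apply, LinearMap.mulLeft_apply,
      smul_mul', Finset.smul_sum, cinv, smul_algebraMap']
    congr 1
    exact Fintype.sum_equiv (Equiv.mulLeft h) _ _ fun g => (mul_smul h g a).symm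
  let ε : A →ₗ[R] R :=
    { toFun := fun a => ⟨ε₀ a, hεR a⟩
      map_add' := fun a b => Subtype.ext (map_add ε₀ a b)
      map_smul' := fun r a => Subtype.ext ((map_smul ε₀ r a).trans rfl) }
  -- the invariant ring is Noetherian
  have hnoeth : IsNoetherianRing R := by
    have hmc : ∀ I : Ideal R, (I.map (algebraMap R A)).comap (algebraMap R A) = I := fun I => by
      refine le_antisymm (fun r hr => ?_) Ideal.le_comap_map
      have hsub : ∀ a ∈ I.map (algebraMap R A), ε a ∈ I := fun a ha => by
        obtain ⟨c, hc, rfl⟩ : ∃ c : I →₀ A, True ∧ (c.sum fun i b => b * algebraMap R A i) = a := by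
          have : a ∈ Submodule.span A (Set.range fun i : I => algebraMap R A i) := by
            rw [show Set.range (fun i : I => algebraMap R A i) = algebraMap R A '' I by
              rw [Set.image_eq_range]; rfl]
            exact ha
          obtain ⟨c, hc⟩ := (Finsupp.mem_span_range_iff_exists_finsupp (R := A)).1 this
          exact ⟨c, trivial, hc⟩
        rw [Finsupp.sum, map_sum]
        refine I.sum_mem fun i _ => ?_
        rw [mul_comm, ← Algebra.smul_def, map_smul]
        exact I.mul_mem_right _ i.2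
      have h := hsub _ hr
      have h1 : ε (algebraMap R A r) = r := Subtype.ext (by
        change cinv * (∑ g : G, act g) (r : A) = r
        rw [LinearMap.sum_apply, Finset.sum_congr rfl (fun g _ => show act g (r : A) = r from r.2 g),
          Finset.sum_const, Finset.card_univ, nsmul_eq_mul, ← mul_assoc, ← Nat.card_eq_fintype_card, hc1, one_mul])
      rwa [h1] at h
    have hw : WellFoundedGT (Ideal R) :=
      (OrderEmbedding.ofMapLEIff (fun I : Ideal R => I.map (algebraMap R A)) fun I J =>
        ⟨fun h => hmc I ▸ hmc J ▸ Ideal.comap_mono h, fun h => Ideal.map_mono h⟩).wellFoundedGT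
    exact isNoetherianRing_iff.2 (isNoetherian_iff'.2 hw)
  refine ⟨hloc, hnoeth, hlh, ?_⟩
  have : Module.FinitePresentation R A := Module.finitePresentation_of_finite R A
  apply Module.free_of_maximalIdeal_rTensor_injective
  rw [← LinearMap.lTensor_inj_iff_rTensor_inj]
  let φ : A ⊗[R] (maximalIdeal R) →ₗ[A] A ⊗[R] R := LinearMap.baseChange A (maximalIdeal R).subtype
  suffices hT : LinearMap.ker φ = ⊥ by
    exact (injective_iff_map_eq_zero _).2 fun t ht => (Submodule.mem_bot A).1 (hT ▸ (show t ∈ LinearMap.ker φ from ht))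
  let γ : G → (A ⊗[R] (maximalIdeal R) →ₗ[R] A ⊗[R] (maximalIdeal R)) := fun g => (act g).rTensor _
  have hγ : ∀ (g : G) (a : A) t, γ g (a • t) = (g • a) • γ g t := fun g a t => by
    induction t using TensorProduct.induction_on with
    | zero => simp
    | tmul b m =>
      change (g • (a * b)) ⊗ₜ[R] m = ((g • a) * (g • b)) ⊗ₜ[R] m
      rw [smul_mul']
    | add x y hx hy => simp [smul_add, hx, hy]
  have hker : ∀ (f : A →ₗ[R] A) t, t ∈ LinearMap.ker φ → f.rTensor (maximalIdeal R) t ∈ LinearMap.ker φ := fun f t ht => by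
    change (maximalIdeal R).subtype.lTensor A (f.rTensor _ t) = 0
    rw [← LinearMap.comp_apply, LinearMap.lTensor_comp_rTensor, ← LinearMap.rTensor_comp_lTensor, LinearMap.comp_apply]
    rw [show (maximalIdeal R).subtype.lTensor A t = 0 from ht, map_zero]
  have hγid : ∀ (g : G), act g = LinearMap.id → ∀ t, γ g t = t := fun g h t => by
    change (act g).rTensor _ t = t
    rw [h, LinearMap.rTensor_id]
    rfl
  let H : Subgroup G :=
    { carrier := {g | ∀ t ∈ LinearMap.ker φ, γ g t - t ∈ maximalIdeal A • LinearMap.ker φ}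
      one_mem' := fun t _ => by
        rw [hγid 1 (LinearMap.ext fun a => one_smul G a) t, sub_self]
        exact zero_mem _
      mul_mem' := fun {g h} hg hh t ht => by
        have : act (g * h) = act g ∘ₗ act h := LinearMap.ext fun a => mul_smul g h a
        rw [show γ (g * h) t = γ g (γ h t) by
            change (act (g * h)).rTensor _ t = _
            rw [this, LinearMap.rTensor_comp]
            rfl,
          show γ g (γ h t) - t = (γ g (γ h t) - γ h t) + (γ h t - t) by abel]
        exact add_mem (hg _ (hker _ t ht)) (hh t ht)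
      inv_mem' := fun {g} hg t ht => by
        have : act g ∘ₗ act g⁻¹ = LinearMap.id := LinearMap.ext fun a => smul_inv_smul g a
        have h1 := hg _ (hker (act g⁻¹) t ht)
        rw [show γ g ((act g⁻¹).rTensor _ t) = t by
          change (act g).rTensor _ ((act g⁻¹).rTensor _ t) = t
          rw [← LinearMap.comp_apply, ← LinearMap.rTensor_comp, this, LinearMap.rTensor_id]
          rfl] at h1
        rw [← neg_sub]
        exact neg_mem h1 }
  have hH : H = ⊤ := by
    rw [eq_top_iff, ← hgen, Subgroup.closure_le]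
    rintro g ⟨l, hl, hla⟩ t ht
    rcases eq_or_ne l 0 with rfl | hl0
    · rw [hγid g (LinearMap.ext fun a => ?_) t, sub_self]
      · exact zero_mem _
      · change g • a = a
        simpa [sub_eq_zero] using hla a
    choose Δ hΔ using fun a => Ideal.mem_span_singleton'.1 (hla a)
    let D : A →ₗ[R] A :=
      { toFun := Δ
        map_add' := fun a b => mul_right_cancel₀ hl0 (by rw [add_mul, hΔ, hΔ, hΔ, smul_add]; ring)
        map_smul' := fun r a => mul_right_cancel₀ hl0 (by
          change Δ ((r : A) * a) * l = (r : A) * Δ a * l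
          rw [hΔ, mul_assoc, hΔ, smul_mul', show g • (r : A) = r from r.2 g]; ring) }
    have h1 : γ g t - t = l • D.rTensor (maximalIdeal R) t := by
      clear ht
      induction t using TensorProduct.induction_on with
      | zero => simp
      | tmul b m =>
        change (g • b) ⊗ₜ[R] m - b ⊗ₜ[R] m = (l * Δ b) ⊗ₜ[R] m
        rw [← TensorProduct.sub_tmul, mul_comm, hΔ b]
      | add x y hx hy => simp only [map_add, smul_add, ← hx, ← hy]; abel
    rw [h1]
    exact Submodule.smul_mem_smul hl (hker D t ht)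
  refine Submodule.eq_bot_of_le_smul_of_le_jacobson_bot (maximalIdeal A) _ (IsNoetherian.noetherian _) (fun t ht => ?_)
    (IsLocalRing.maximalIdeal_le_jacobson ⊥)
  have hz : ∑ g : G, γ g t = 0 := by
    let ιR : R →ₗ[R] A := Algebra.linearMap R A
    have h1 : ε₀.rTensor (maximalIdeal R) t = 0 := by
      have h0 : ε₀ = ιR ∘ₗ ε := LinearMap.ext fun a => rfl
      rw [h0, LinearMap.rTensor_comp, LinearMap.comp_apply]
      suffices ε.rTensor (maximalIdeal R) t = 0 by rw [this, map_zero]
      have h2 : (maximalIdeal R).subtype.lTensor R (ε.rTensor _ t) = 0 := by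
        rw [← LinearMap.comp_apply, LinearMap.lTensor_comp_rTensor, ← LinearMap.rTensor_comp_lTensor,
          LinearMap.comp_apply, show (maximalIdeal R).subtype.lTensor A t = 0 from ht, map_zero]
      exact (Module.Flat.lTensor_preserves_injective_linearMap _ (Submodule.injective_subtype _))
        (h2.trans (map_zero _).symm)
    have h3 : ε₀.rTensor (maximalIdeal R) t = cinv • ∑ g : G, γ g t := by
      clear h1 ht
      induction t using TensorProduct.induction_on with
      | zero => simp
      | tmul b m =>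
        rw [LinearMap.rTensor_tmul, show ∑ g : G, γ g (b ⊗ₜ[R] m) = (∑ g : G, g • b) ⊗ₜ[R] m from
          (TensorProduct.sum_tmul _ _ _).symm, TensorProduct.smul_tmul']
        congr 1
        simp [ε₀, act, smul_eq_mul, Finset.mul_sum]
      | add x y hx hy => simp only [map_add, Finset.sum_add_distrib, smul_add, hx, hy]
    rw [h3] at h1
    have := congrArg ((Nat.card G : A) • ·) h1
    simp only [smul_smul, mul_comm _ cinv, hc1, one_smul, smul_zero] at this
    exact this
  have hsum : ∑ g : G, (γ g t - t) ∈ maximalIdeal A • LinearMap.ker φ :=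
    sum_mem fun g _ => (show g ∈ H by rw [hH]; trivial) t ht
  rw [Finset.sum_sub_distrib, hz, zero_sub, Finset.sum_const, Finset.card_univ, neg_mem_iff,
    ← Nat.cast_smul_eq_nsmul A, ← Nat.card_eq_fintype_card] at hsum
  have := Submodule.smul_mem _ cinv hsum
  rwa [smul_smul, hc1, one_smul] at this

end GrothLib.PseudoRefl
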